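import Cfsg.Agent.H51.Ore.Ru.C10a_mg_m3
import Cfsg.Agent.H51.Ore.Ru.C2b_m3
import Cfsg.Agent.H51.Ore.Ru.C14b_m3
import Cfsg.Agent.H51.Ore.Ru.C14c_m3
import Cfsg.Agent.H51.Ore.Ru.C4c_m3
import Cfsg.Agent.H51.Ore.Ru.C8c_m3
import Cfsg.Agent.RuLat.Main
import Cfsg.Agent.H51.Ore.Ru.C8a_m3
import Cfsg.Agent.FastGrp
import Cfsg.Agent.Prune
set_option linter.all false

section
prune_inst 0x7f00000000000000000000000000000000000000000000000000000000000000000000000000000000000000000000000000000000000000000000000000000000000000000000000000000000000000003fffffffffffffffffffffffffffbeffbdffffffff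

-- part: H51/Ore/Ru/C29a
section
set_option linter.all false
open scoped Cfsg.Agent.FastGrp

/-!
# The classes of the Rudvalis group: class 29a (helper51)

Generated certificates: for a representative `w` the masks of the points adjacent to their images under `w`, `w²`, `w³`,
a bound of the centralizer, the invariants, and the form of a commutator.
-/

set_option autoImplicit false
set_option maxRecDepth 100000
set_option exponentiation.threshold 5000

namespace Cfsg.Agent.H51.Ore.Ru

open Cfsg.Agent.Lib Cfsg.Agent.Lib.BitNet Cfsg.Agent.SporadicB Cfsg.Agent.SporadicB.RuData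
open Cfsg.Agent.SporadicB.RuOrder Cfsg.Agent.RuD.Data Cfsg.Agent.SporRec.TCUpperCert Cfsg.Agent.SporRec.R3.Kernel
open Cfsg.Agent.RuD.Letters Cfsg.Agent.KFacts.Ru.CentEng Cfsg.Agent.CpAutRuFive.Eng

/-! ### class 29a -/

def m1_29a : ℕ := 0x9d2d2c6904a817cb01da15afd43dd05a013980649577d9a7551009cd80d822c70a15d81b88a08a5826e6cb5a0592029d98174d6f62a24db499e200c8082e00a028a70b4a7b41530a8fb651f08e9c4d0d1636e9c2c3b29d8b0412034189c04d02315ae060ea514e13ab65a0008e945002e13b1ad96d41e2f61a5795154000d15e0629e688390f023bf945fab255ac151050277bd2c11a0cb0a6a0a9ca19318a20dc9c975740f69643afd87b82f101c32d1f0de940355482f1084e702d6625a993bc9fe2440b6563e03259259b458940cb8103923081f018ea87f1a28ae6c684401b5b2596572b18a865631981288f63244d70caab42de515c85e450fcfce829811b80c6347704c31a3387809188010ca123c8699a1282bdafa32ce3c08083500072cebec89c7199332d343e34fa2100b699cb85137bd53f5a2b261e1098940926f2f23c3176404c996d0354e50ac4b141257a6200d95427618e73e9b496f98ab9ea80009ad98cd6b00d94cc36011f922391603b692159dc516e5c20958a8106378ba8c328ca5582558364a210994103240d50879ffc32b38d086276a18884b9393f5420018001b41c03806260167c02b843ac432d24009f987ff406ae8e611968fedfc6a8298c59c9f94aef0654205e5e9132aa72dc00e11b3e0525258220281041679fa66cc638582f64c781831a936542fc4e090dc6ef42293625d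

def m2_29a : ℕ := 0x3510d7ea4f6401363b19be00091693f756162e9c83d107022c4cd8813d520da079895201b1d202e615850394b3309d694c48a8510e417228e40e025aac50a2249fb6f498e5b0a8c85145928605010c70ac99155a7a3b1543611d867c1858a069fcbaaf8e152450c8fca23168d1f4e6d2005021419511d106138482c78aed3a10d811e9342284ac5eb8118e1e146745f2f94054cc7464c7b09321005b3229974456eba980598b0714c859019feb1286e90a24e5d4a1f194ccf427baaa5b7006dac2837693a828521cad4848742f6558853cd600608b02e853c8f60f193a0b2f98aa8e360285dd2dc54b33e1aad0d9a84914269c02dc207bc286e7a46284f59694aa791828fb309c84445a0d0908cca0c91901368122035ac6c830122fcd2baaee3f5f6be6d590818aef912ea84322a882b1bb8678c601e03909edac4aa46803a91cc048af0035b0ad682c8e922c234525b5254c5b168040c432abe46d575647b003c9489c0c94da2d56db65a2d08d9f0b5a126964eca00a8843ced10a80231967313c611777d9e0debe6c0e858693f1a638423499a30dbb10970889452a3825480cc8ed5e822989efd02035203a2983f209f864c2317829dc8848a47ecc60b013e45c639604452aaa60210b25148186bf448c2532868de9341617107421f3ba6a82b6d77550218ec233bdba71a1917c10030c9c9112840d68afe246e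

def m3_29a : ℕ := 0x2a90d91453e5c0307a92cadee3c22bec780284ca46293a60174f5272ad27563f79d6213d8743682d30304182a55fe100e6d0e03add81624867ac4c1b706c83bd271edfd48feba3304c91a94ca24b312189a85514be880a413d0a04bd94baf33384a40627546fb8ffb1c35587e4c937e0d15f7ea27a002058fb9a31c9815a9200e2827d75ce2be6c0913c1432445187e287e80c363036c3b5922e353102420ee02e8058a05f50dc0a2a4d0e81cab31ea06026229080e46768e8598c823b179358e27c1413e68b57041304404288688b74ccd73052255da57c14c66a315b998f05a08f4a118071c79c4a04a57f6340cde9d25262b00c8432ce420a939a66afa6030240d01a09b5bcdc0653f3ab98cda068bb0cb611410143483a94cb753938a61d24b2cba0018810ccd2c772e9b0922eac51208da82ce4c4b10de9a2cf237f640b6147c9de903b5834905b265ae3507d20d88d2e7a0846a7a491b1434c581075340f2c87115210238414d3189956d465d27c377004938162ad5d520df2e9265143b04530c395ec60a21f8ba0261f18ce4838aa08e0134f4913666c9c06145fdfb4d68680f816350221c22a60ce0413c00452001ee921e8c264528ca9d1b907ba5f0840663bcd05262a593d9a39c968b5a290470806939418a4f1f0dda06b5f89c906c971184018a70b40956154126a6d36c10491b00000481898a1a32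

def i_29a : List Ins := [
  .and 2 2, .and 0 1, .and 0 3, .cnt 4 739, .and 0 1, .base 0 39, .and 8 8, .and 0 8, .and 0 2, .diff 0 12,
  .cnt 1 140, .and 0 1, .row 0 85, .and 9 9, .and 0 8, .diff 0 2, .cnt 7 110, .and 0 1, .row 0 1042, .and 9 9,
  .and 0 1, .and 0 8, .cnt 11 74, .and 0 1, .row 0 591, .and 2 2, .diff 0 28, .row 0 2589, .and 17 17, .and 0 23,
  .and 0 33, .row 0 2528, .and 9 9, .diff 0 14, .and 0 9, .and 0 3, .row 0 1531, .and 20 20, .and 0 28, .and 0 7,
  .and 0 27, .row 0 954, .and 31 31, .and 0 35, .diff 0 19, .and 0 32, .diff 0 27, .row 0 1289, .and 3 3,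
  .and 0 52, .diff 0 31, .row 0 1019, .and 8 8, .and 0 5, .and 0 41, .and 0 58, .row 0 1556, .and 12 12,
  .diff 0 16, .row 0 2230, .and 21 21, .and 0 42, .row 0 625, .and 13 13, .diff 0 58, .and 0 46, .row 0 649,
  .and 44 44, .diff 0 20, .diff 0 56, .row 0 3115, .and 26 26, .diff 0 35, .diff 0 45, .row 0 388, .and 35 35,
  .diff 0 63, .row 0 850, .and 56 56, .and 0 16, .and 0 43, .and 0 21, .row 0 1891, .and 3 3, .diff 0 32,
  .and 0 7, .row 0 808, .and 7 7, .and 0 63, .diff 0 57, .row 0 3952, .and 56 56, .diff 0 60, .row 0 3944,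
  .and 72 72, .and 0 67, .and 0 59, .row 0 3376, .and 75 75, .and 0 28, .and 0 75, .row 0 167, .and 58 58,
  .and 0 36, .and 0 107, .diff 0 92, .row 0 3771, .and 11 11, .and 0 37, .row 0 2808, .and 21 21, .and 0 79,
  .row 0 1687]

/-- representative -/
def w_29a : List ℕ := [8, 3, 5, 7, 4, 5]

theorem a1_29a : chkAdj (rpw w_29a 1) m1_29a = true := by decide +kernel
theorem a2_29a : chkAdj (rpw w_29a 2) m2_29a = true := by decide +kernel
theorem a3_29a : chkAdj (rpw w_29a 3) m3_29a = true := by decide +kernel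
theorem r_29a : ub 12 4060 row i_29a [m1_29a, m2_29a, m3_29a] = some (2 * 29) := by
  rw [KFacts.RuF.ub_eq]; decide +kernel
theorem g_29a : Good (wprod ml w_29a) ∧
    ∃ x : RuOrder.H, x * wprod ml w_29a * x⁻¹ = (wprod ml w_29a)⁻¹ :=
  good_of_b (a := [8, 3]) (a' := [7, 4]) (s := [5]) (by decide +kernel) rfl

/-- **the class 29a** -/
theorem ok_29a : Cl.OK ⟨w_29a, 29, (696, 580)⟩ :=
  ok_e a1_29a a2_29a a3_29a (by decide +kernel) (by decide +kernel) (by decide +kernel)
    (by simp) r_29a (b := 0) (by norm_num) (by decide +kernel) g_29a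

end Cfsg.Agent.H51.Ore.Ru
end

-- part: H51/Ore/Ru/C15a
section
set_option linter.all false
open scoped Cfsg.Agent.FastGrp

/-!
# The classes of the Rudvalis group: class 15a (helper51)

Generated certificates: for a representative `w` the masks of the points adjacent to their images under `w`, `w²`, `w³`,
a bound of the centralizer, the invariants, and the form of a commutator.
-/

set_option autoImplicit false
set_option maxRecDepth 100000
set_option exponentiation.threshold 5000

namespace Cfsg.Agent.H51.Ore.Ru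

open Cfsg.Agent.Lib Cfsg.Agent.Lib.BitNet Cfsg.Agent.SporadicB Cfsg.Agent.SporadicB.RuData
open Cfsg.Agent.SporadicB.RuOrder Cfsg.Agent.RuD.Data Cfsg.Agent.SporRec.TCUpperCert Cfsg.Agent.SporRec.R3.Kernel
open Cfsg.Agent.RuD.Letters Cfsg.Agent.KFacts.Ru.CentEng Cfsg.Agent.CpAutRuFive.Eng

/-! ### class 15a -/

def m1_15a : ℕ := 0x1fcd30c493d45031090dc1e1c639e03388a98d3a8b40f8fb10504d471004690e3795f15f5f2278c713b236d49cba2c5926110b8056509014623cfd2292408fa1e15b3c2789314c01881e4621d55199ed47e1200c81f2bf020e10ca69c98db54e8f67a0886f1cda3e30a4091f229df2d2921fb7c9f2d1777c585765dd9109168c4573cae05a4c079aa5f0892265990603b08f4937e02a40c1063bbcc8496a98c91b4c2d73160cc15be1cf5ea748c0c5024a5d14a8d298839b3da84f2dc69255322cd8466021a0698d0a9851174041e7c8a80159b688565d80d4a1b80a14c231697688228124c2f5fa308e031e700edd832905d27fc8a564d80b38c986100e28b220802976f171839c15912062b5fd6028a65b370108c80496464a0a42e8b9845e58b8a1335bb42a8996a61024109789224e6190ae3d69a679e8848c3e1295b433a210354603246f482782bb65c2d11a4828022430e600bf9465a4d32a4701847e499cd1db5d854c92c72503860ebb74bf81c8b00e1fea5452ac509b7d826637ce3af08a7496251dcf2bc01064d0c89107022c125aa8062b38d4f374d713309dfa28cc220204d907a62e62d37131699180e3e068a27e16061016f0016845470c4f33efa8a25cd068508103b14a24bab9f21113d54990dba285ef8dfac5b0a8076409a7004ef2a2b04e681482008201f480053c41c424748e7c3dc02da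

def m2_15a : ℕ := 0x6cc0a236282f08600348e026c461bf1a902b45d3be5e27e958a746c4cc8851347c1a4b904cad0353065b278c345291bd9314200e6d73125e6407a0be16ab9c54d8e1b6e4c789f11f1010465261896a698705b0d9cf20333a5b0d20b214334c54a4a330eeb1e47c3c54dc02ac096634ad09812f50a691c3908da177d3eab96c82601e8e3cd91e9527c168faa788a86d2fc1252c9700823e4180dc92242552f748171970826940d13450b83333d89359d300b0cb3b0e0d24d645b6988161c43c89d94ddcbea340d0c202686642b605a89490a60b6146faea6d4b4a2ac1d0111c126ed0b2b46072041c51792cc856438c28b9a423da450896c071768592e2aeb9558b36f74ced13e92b3b0c111d092609de6d6cad80d7a01d62480110004d58b63260125166e1d040de023881e7b1f3e8b24e875b40f0a20d6d05518dae64116bab58b54adc1426954818080b0313575346c2d44a077abc111523dc26920f88121564184320816213e141c4884f18926a89582a13bb95c40b2710ea158634b6a3b474de30e4798728d16b1702f4a9c43d1bca30d483523702503934debc183304d918f99b013804a11b03097320d92c28241eb065441081126d0103c445f88a841ab167748996868acf413306b314841d620810a532526b0e78302c3f139005591d70554c5b0e7ca1127a1867d741837a8968b86e90d7f33d5b173ab8a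

def m3_15a : ℕ := 0x1594c1542ce255821814a1f1bf2b705189410b1b000718ca8610ca3945ae54480418011538b1a88a813169831700440557e12f101080cd04c5009e8c446098f32094118038441b0d411888b31740118c08b6403d0d9afb29e1147a517f109c71521228f95990c22160c1402f259d003572c3a302e4c5dd39282e20fe7a00e0850dac4a028802c1f6cba3c209a63128095490119000892641817f05c40c061b51a899bd310ed0b0b7b4661a4114c50a5a0cdd29b0105362021c12360b1e02604204000c2b46e524941e10851c9406642237006916c6c0c8639680231786443929027e2010a23810c4c1600110442b61b4a1082f46611c2c22120800948488e30b02a76981fb84c229d02a2025a6c1a370cd4921c764d84890242f8418a3d149c89832a05c9202425590be089a60b622000e2aa62144e515f46e3a0584d0976ac170132ed0940c134500a00007fa087822005694351612a01e2310be40860196b2188581657fc363006448d8e467cb1470136982815f04cbdb14930128c74ca08100ad509022ca240270e290c036d5640510315e93e2a9024a584084639008c89d14922a01069960851e0b9145d39c2181a55041001223943103bb601415818906518f4907dc290525e2188b2c3882105b1109d185335af405640506990496678827214844da5420df004404481a668c82c81c56989b25a1bea401711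

def i_15a : List Ins := [
  .and 2 2, .diff 0 1, .diff 0 3, .cnt 1 347, .and 0 1, .base 0 35, .and 4 4, .diff 0 1, .diff 0 5, .cnt 0 103,
  .and 0 1, .row 0 2308, .and 3 3, .and 0 1, .cnt 0 31, .and 0 1, .row 0 2476, .and 7 7, .diff 0 1, .diff 0 22,
  .diff 0 8, .diff 0 23, .and 0 16, .row 0 1546, .and 9 9, .and 0 27, .diff 0 2, .row 0 430, .and 6 6, .diff 0 23,
  .row 0 3053, .and 27 27, .and 0 26, .and 0 16, .and 0 10, .row 0 3321, .and 32 32, .and 0 1, .and 0 10,
  .and 0 27, .row 0 452, .and 3 3, .diff 0 36, .and 0 31, .diff 0 20, .row 0 1012, .and 32 32, .and 0 30,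
  .diff 0 24, .and 0 21, .and 0 19, .diff 0 15, .row 0 2710, .and 49 49, .and 0 26, .diff 0 31, .diff 0 44,
  .row 0 664, .and 54 54, .and 0 1, .and 0 43, .diff 0 55, .and 0 50, .row 0 1996, .and 44 44, .and 0 1,
  .and 0 54, .row 0 3762, .and 18 18, .and 0 16, .row 0 3118, .and 56 56, .and 0 41, .and 0 49, .row 0 706,
  .and 65 65, .and 0 74, .and 0 53, .row 0 2492, .and 60 60, .and 0 56, .diff 0 53, .row 0 2502, .and 35 35,
  .and 0 56, .and 0 49, .diff 0 45, .row 0 1385, .and 68 68, .diff 0 14, .diff 0 84, .row 0 2250, .and 11 11,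
  .diff 0 94, .row 0 1882]

/-- representative -/
def w_15a : List ℕ := [0, 7, 8, 5, 4, 3, 0, 5]

theorem a1_15a : chkAdj (rpw w_15a 1) m1_15a = true := by decide +kernel
theorem a2_15a : chkAdj (rpw w_15a 2) m2_15a = true := by decide +kernel
theorem a3_15a : chkAdj (rpw w_15a 3) m3_15a = true := by decide +kernel
theorem r_15a : ub 12 4060 row i_15a [m1_15a, m2_15a, m3_15a] = some (2 * 15) := by
  rw [KFacts.RuF.ub_eq]; decide +kernel
theorem g_15a : Good (wprod ml w_15a) ∧
    ∃ x : RuOrder.H, x * wprod ml w_15a * x⁻¹ = (wprod ml w_15a)⁻¹ :=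
  good_of_b (a := [0, 7, 8]) (a' := [4, 3, 0]) (s := [5]) (by decide +kernel) rfl

/-- **the class 15a** -/
theorem ok_15a : Cl.OK ⟨w_15a, 15, (720, 720)⟩ :=
  ok_e a1_15a a2_15a a3_15a (by decide +kernel) (by decide +kernel) (by decide +kernel)
    (by simp) r_15a (b := 0) (by norm_num) (by decide +kernel) g_15a

end Cfsg.Agent.H51.Ore.Ru
end

-- part: H51/Ore/Ru/C2b_mg
section

end

-- part: H51/Ore/RuMain
section
set_option linter.all false
open scoped Cfsg.Agent.FastGrp

/-!
# The 36 conjugacy classes of the Rudvalis group, S2443 and S4171 for Ru (helper51)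

`cls` is the list of representatives (words in the letters of `RuD.Letters.ml`), with the orders of the centralizers and
the invariants. `cover`: every element of `RuOrder.H` is conjugate to a representative or to the inverse of the
representative of order 16. All representatives are commutators and products of four involutions.
-/

set_option autoImplicit false
set_option maxRecDepth 100000
set_option exponentiation.threshold 5000

namespace Cfsg.Agent.H51.Ore.Ru

open Subgroup Cfsg.Agent.Lib Cfsg.Agent.Lib.BitNet Cfsg.Agent.SporadicB Cfsg.Agent.SporadicB.RuData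
open Cfsg.Agent.SporadicB.RuOrder Cfsg.Agent.RuD.Data Cfsg.Agent.SporRec.TCUpperCert Cfsg.Agent.SporRec.R3.Kernel
open Cfsg.Agent.RuD.Letters Cfsg.Agent.KFacts.Ru.CentEng Cfsg.Agent.CpAutRuFive.Eng Cfsg.Agent.H777.Ore

/-- the representatives: word, order of the centralizer, invariants (the two classes of order 16 are represented by
`w_16a` and its inverse) -/
def cls : List Cl := [
  ⟨[], 145926144000, (0, 0)⟩,
  ⟨w_2a, 116480, (0, 1820)⟩,
  ⟨w_2b, 245760, (0, 1920)⟩,
  ⟨w_3a, 2160, (1890, 0)⟩,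
  ⟨w_4a, 3840, (0, 840)⟩,
  ⟨w_4b, 7680, (960, 1020)⟩,
  ⟨w_4c, 1024, (768, 1880)⟩,
  ⟨w_4d, 512, (896, 1940)⟩,
  ⟨w_5a, 300, (300, 300)⟩,
  ⟨w_5b, 1000, (250, 250)⟩,
  ⟨w_6a, 48, (714, 864)⟩,
  ⟨w_7a, 28, (812, 812)⟩,
  ⟨w_8a, 32, (948, 954)⟩,
  ⟨w_8b, 64, (536, 536)⟩,
  ⟨w_8c, 96, (420, 438)⟩,
  ⟨w_10a, 20, (700, 1020)⟩,
  ⟨w_10b, 40, (610, 610)⟩,
  ⟨w_12a, 24, (762, 360)⟩,
  ⟨w_12b, 12, (762, 372)⟩,
  ⟨w_13a, 52, (416, 728)⟩,
  ⟨w_14a, 28, (700, 812)⟩,
  ⟨w_14b, 28, (812, 868)⟩,
  ⟨w_14c, 28, (924, 756)⟩,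
  ⟨w_15a, 15, (720, 720)⟩,
  ⟨w_16a, 16, (600, 794)⟩,
  ⟨w_20a, 20, (690, 820)⟩,
  ⟨w_20b, 20, (850, 740)⟩,
  ⟨w_20c, 20, (770, 850)⟩,
  ⟨w_24a, 24, (780, 540)⟩,
  ⟨w_24b, 24, (780, 732)⟩,
  ⟨w_26a, 52, (676, 1092)⟩,
  ⟨w_26b, 52, (676, 884)⟩,
  ⟨w_26c, 52, (884, 780)⟩,
  ⟨w_29a, 29, (696, 580)⟩,
  ⟨w_29b, 29, (812, 696)⟩]

theorem ok_one : Cl.OK ⟨[], 145926144000, (0, 0)⟩ := by
  have hfin : Finite RuOrder.H := Nat.finite_of_card_ne_zero (by rw [card_H]; norm_num)
  have a1 : chkAdj (rpw [] 1) 0 = true := by decide +kernel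
  have a2 : chkAdj (rpw [] 2) 0 = true := by decide +kernel
  have a3 : chkAdj (rpw [] 3) 0 = true := by decide +kernel
  refine ⟨?_, ?_, good_one⟩
  · rw [← card_H]
    exact Nat.card_le_card_of_injective _ Subtype.val_injective
  · rw [phi_word a1 a2 (by decide +kernel), phi_word a1 a3 (by decide +kernel)]
    decide +kernel

theorem cls_ok : ∀ r ∈ cls, Cl.OK r := by
  intro r hr
  simp only [cls, List.mem_cons, List.not_mem_nil, or_false] at hr
  rcases hr with rfl | rfl | rfl | rfl | rfl | rfl | rfl | rfl | rfl | rfl | rfl | rfl | rfl | rfl | rfl | rfl | rfl | rfl | rfl | rfl | rfl | rfl | rfl | rfl | rfl | rfl | rfl | rfl | rfl | rfl | rfl | rfl | rfl | rfl | rfl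
  exacts [ok_one, ok_2a, ok_2b, ok_3a, ok_4a, ok_4b, ok_4c, ok_4d, ok_5a, ok_5b, ok_6a, ok_7a, ok_8a, ok_8b, ok_8c, ok_10a, ok_10b, ok_12a, ok_12b, ok_13a, ok_14a, ok_14b, ok_14c, ok_15a, ok_16a, ok_20a, ok_20b, ok_20c, ok_24a, ok_24b, ok_26a, ok_26b, ok_26c, ok_29a, ok_29b]

theorem cls_nodup : (cls.map Cl.p).Nodup := by decide +kernel

theorem cls_sum : 145926144000 ≤ 145926144000 / 16 + (cls.map fun r => 145926144000 / r.c).sum := by decide +kernel

/-- the invariants as functions on the classes -/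
noncomputable def phiC : ConjClasses RuOrder.H → ℕ × ℕ :=
  Quotient.lift (fun g => (phi 2 g, phi 3 g)) fun _ _ h => Prod.ext (phi_conj 2 h) (phi_conj 3 h)

/-- the element of order 16 is not conjugate to its inverse -/
theorem not_conj_16 : ¬ IsConj (wprod ml w_16a) (wprod ml w_16a)⁻¹ := by
  have hfin : Finite RuOrder.H := Nat.finite_of_card_ne_zero (by rw [card_H]; norm_num)
  have h1 := card_e (w := w_16a) (l := e_16a) (ms := [m1_16a, m2_16a, m3_16a]) (by
    intro m hm
    simp only [List.mem_cons, List.not_mem_nil, or_false] at hm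
    rcases hm with rfl | rfl | rfl
    exacts [⟨1, a1_16a⟩, ⟨2, a2_16a⟩, ⟨3, a3_16a⟩]) re_16a
  have ho : orderOf (wprod ml w_16a : RuOrder.H) = 16 := by
    refine orderOf_eq_prime_pow (p := 2) (n := 3) ?_ ?_
    · rw [← wprod_rpw]
      exact ne_one_of (b := 0) (by norm_num) (by decide +kernel)
    · rw [← wprod_rpw]
      exact rel_of_chk (rels := [rpw w_16a (2 ^ (3 + 1))]) (by decide +kernel) _ (List.mem_singleton_self _)
  refine not_isConj_inv h1 ho.ge ?_
  intro h2
  have h3 : (wprod ml w_16a : RuOrder.H) ^ 2 = 1 := by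
    rw [pow_two]
    nth_rw 1 [← h2]
    exact inv_mul_cancel _
  have h4 := orderOf_dvd_of_pow_eq_one h3
  rw [ho] at h4
  exact absurd (Nat.le_of_dvd (by norm_num) h4) (by norm_num)

/-- **the class list of the Rudvalis group** -/
theorem cover (g : RuOrder.H) : (∃ r ∈ cls, IsConj (wprod ml r.w) g) ∨ IsConj (wprod ml w_16a)⁻¹ g := by
  have hfin : Finite RuOrder.H := Nat.finite_of_card_ne_zero (by rw [card_H]; norm_num)
  have hmem : (⟨w_16a, 16, (600, 794)⟩ : Cl) ∈ cls := by simp [cls]
  obtain ⟨p, hp, hpg⟩ := Cfsg.Agent.H235.Ore.ClassList.complete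
    ((((wprod ml w_16a)⁻¹ : RuOrder.H), 16) :: cls.map fun r => ((wprod ml r.w : RuOrder.H), r.c)) (by
      intro p hp
      rw [List.mem_cons, List.mem_map] at hp
      rcases hp with rfl | ⟨r, hr, rfl⟩
      · rw [Cfsg.Agent.H235.Ore.ClassList.card_cent_inv]
        exact (cls_ok _ hmem).1
      · exact (cls_ok _ hr).1) (by
      have h1 : ((cls.map fun r => ((wprod ml r.w : RuOrder.H), r.c)).map fun p => ConjClasses.mk p.1).map phiC =
          cls.map Cl.p := by
        rw [List.map_map, List.map_map]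
        apply List.map_congr_left
        intro r hr
        exact (cls_ok r hr).2.1
      have h2 : ((cls.map fun r => ((wprod ml r.w : RuOrder.H), r.c)).map fun p => ConjClasses.mk p.1).Nodup := by
        apply List.Nodup.of_map phiC
        rw [h1]
        exact cls_nodup
      rw [List.map_cons, List.nodup_cons]
      refine ⟨?_, h2⟩
      intro h3
      rw [List.map_map, List.mem_map] at h3
      obtain ⟨r, hr, h4⟩ := h3
      have h5 : r = ⟨w_16a, 16, (600, 794)⟩ := by
        refine List.inj_on_of_nodup_map cls_nodup hr hmem ?_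
        have h6 := congrArg phiC h4
        have h7 : phiC (ConjClasses.mk (wprod ml w_16a : RuOrder.H)⁻¹) = (600, 794) := by
          refine Eq.trans ?_ (cls_ok _ hmem).2.1
          exact Prod.ext (phi_inv 2 _) (phi_inv 3 _)
        rw [← (cls_ok r hr).2.1]
        exact h6.trans h7
      rw [h5] at h4
      exact not_conj_16 (ConjClasses.mk_eq_mk_iff_isConj.1 h4)) (by
      rw [card_H, List.map_cons, List.sum_cons, List.map_map]
      exact cls_sum) g
  rw [List.mem_cons, List.mem_map] at hp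
  rcases hp with rfl | ⟨r, hr, rfl⟩
  · exact Or.inr hpg
  · exact Or.inl ⟨r, hr, hpg⟩

theorem good (g : RuOrder.H) : Good g := by
  rcases cover g with ⟨r, hr, h⟩ | h
  · exact (cls_ok r hr).2.2.of_isConj h
  · exact (g_16a.inv).of_isConj h

/-- **S2443, row Ru** -/
theorem ore_ru {S : Type*} [Group S] (h : Cfsg.Spor.IsoRu S) : AllC S := by
  obtain ⟨e⟩ := h
  exact AllC.congr (e.trans Cfsg.Agent.RuLat.Main.equiv).symm fun g => (good g).1

/-- **S4171, row Ru** -/
theorem four_ru {S : Type*} [Group S] (h : Cfsg.Spor.IsoRu S) : Inv4 S := by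
  obtain ⟨e⟩ := h
  set f := e.trans Cfsg.Agent.RuLat.Main.equiv with hf
  intro x
  obtain ⟨a, b, c, d, ha, hb, hc, hd, hx⟩ := (good (f x)).2
  refine ⟨f.symm a, f.symm b, f.symm c, f.symm d, ?_, ?_, ?_, ?_, ?_⟩
  · rw [← map_mul, ha, map_one]
  · rw [← map_mul, hb, map_one]
  · rw [← map_mul, hc, map_one]
  · rw [← map_mul, hd, map_one]
  · rw [← map_mul, ← map_mul, ← map_mul, ← hx, f.symm_apply_apply]

end Cfsg.Agent.H51.Ore.Ru

private theorem dce_43a8a6fc482c : _root_.True := by
  try have : _root_.True := by simp only [_root_.Cfsg.Agent.H51.Ore.Ru.cls.eq_1]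
  exact _root_.True.intro
end

-- part: H915/S8/RuCent
section
set_option linter.all false
open scoped Cfsg.Agent.FastGrp

/-!
# Bounds of the centralizers in the Rudvalis group (helper915, S4908)

From the class list of helper51.
-/

set_option autoImplicit false
set_option maxRecDepth 100000
set_option exponentiation.threshold 5000

namespace Cfsg.Agent.H915.S8.RuCent

open Subgroup Cfsg Cfsg.Agent.SporadicB Cfsg.Agent.SporRec.TCUpperCert Cfsg.Agent.RuD.Letters Cfsg.Agent.H51.Ore.Ru

theorem card_cent_conj {G : Type*} [Group G] {x y : G} (h : IsConj x y) :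
    Nat.card (centralizer ({x} : Set G)) = Nat.card (centralizer ({y} : Set G)) := by
  obtain ⟨c, rfl⟩ := isConj_iff.1 h
  refine Nat.card_congr ⟨fun a => ⟨c * a * c⁻¹, ?_⟩, fun a => ⟨c⁻¹ * a * c, ?_⟩, ?_, ?_⟩
  · rw [mem_centralizer_singleton_iff]
    have h1 := mem_centralizer_singleton_iff.1 a.2
    calc c * ↑a * c⁻¹ * (c * x * c⁻¹) = c * (a * x) * c⁻¹ := by group
      _ = c * (x * a) * c⁻¹ := by rw [h1]
      _ = _ := by group
  · rw [mem_centralizer_singleton_iff]
    have h1 := mem_centralizer_singleton_iff.1 a.2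
    calc c⁻¹ * ↑a * c * x = c⁻¹ * (a * (c * x * c⁻¹)) * c := by group
      _ = c⁻¹ * (c * x * c⁻¹ * a) * c := by rw [h1]
      _ = _ := by group
  · intro a
    apply Subtype.ext
    show c⁻¹ * (c * a * c⁻¹) * c = a
    group
  · intro a
    apply Subtype.ext
    show c * (c⁻¹ * a * c) * c⁻¹ = a
    group

/-- test points -/
def bs : List ℕ := [0, 29, 580, 577]

/-- the power of the word is not the identity -/
noncomputable def nz (w : List ℕ) (n : ℕ) : Bool := bs.any fun b => !Nat.beq (evalK (rpw w n) b) b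

theorem ne_of_nz {w : List ℕ} {n : ℕ} (h : nz w n = true) : (wprod ml w : RuOrder.H) ^ n ≠ 1 := by
  intro hc
  unfold nz at h
  obtain ⟨b, hb, hbb⟩ := List.any_eq_true.1 h
  rw [Bool.not_eq_true'] at hbb
  have hlt : b < 4060 := by
    simp only [bs, List.mem_cons, List.not_mem_nil, or_false] at hb
    rcases hb with rfl | rfl | rfl | rfl <;> norm_num
  have h4 := evalK_eq (rpw w n) ⟨b, hlt⟩
  rw [wprod_rpw, hc] at h4
  have h5 : b = evalK (rpw w n) b := h4
  rw [← h5, Nat.beq_refl] at hbb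
  exact absurd hbb (by decide)

theorem cent_le (g : RuOrder.H) : (∃ r ∈ cls, IsConj (wprod ml r.w) g ∧
    Nat.card (centralizer ({g} : Set RuOrder.H)) ≤ r.c) ∨ Nat.card (centralizer ({g} : Set RuOrder.H)) ≤ 16 := by
  rcases cover g with ⟨r, hr, h⟩ | h
  · refine Or.inl ⟨r, hr, h, ?_⟩
    rw [← card_cent_conj h]
    exact (cls_ok r hr).1
  · right
    rw [← card_cent_conj h, Cfsg.Agent.H235.Ore.ClassList.card_cent_inv]
    have hmem : (⟨w_16a, 16, (600, 794)⟩ : Cl) ∈ cls := by simp [cls]
    exact (cls_ok _ hmem).1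

theorem wprod_nil' : (wprod ml [] : RuOrder.H) = 1 := rfl

theorem chk1 : (cls.all fun r => Nat.ble r.c 245760 || Nat.beq r.w.length 0) = true := by decide +kernel

theorem chk2 : (cls.all fun r => Nat.ble r.c 7680 || chkRel [rpw r.w 2]) = true := by decide +kernel

theorem chk3 : (cls.all fun r => Nat.ble r.c 2160 || (nz r.w 3 || Nat.beq r.w.length 0)) = true := by decide +kernel

theorem chk5 : (cls.all fun r => Nat.ble r.c 1000 || (nz r.w 5 || Nat.beq r.w.length 0)) = true := by decide +kernel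

theorem eq_one_of_nil {r : Cl} {g : RuOrder.H} (h : IsConj (wprod ml r.w) g) (hr : Nat.beq r.w.length 0 = true) : g = 1 := by
  have h1 : r.w = [] := List.eq_nil_of_length_eq_zero (Nat.eq_of_beq_eq_true hr)
  rw [h1, wprod_nil'] at h
  exact (isConj_one_right.1 h)

/-- all elements different from `1` -/
theorem inv_le (g : RuOrder.H) (hg : g ≠ 1) : Nat.card (centralizer ({g} : Set RuOrder.H)) ≤ 245760 := by
  rcases cent_le g with ⟨r, hr, h, hc⟩ | h
  · have h1 := List.all_eq_true.1 chk1 r hr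
    rw [Bool.or_eq_true, Nat.ble_eq] at h1
    rcases h1 with h1 | h1
    · exact hc.trans h1
    · exact absurd (eq_one_of_nil h h1) hg
  · exact h.trans (by norm_num)

/-- the elements which are not involutions -/
theorem le_of_sq (g : RuOrder.H) (hg : g * g ≠ 1) : Nat.card (centralizer ({g} : Set RuOrder.H)) ≤ 7680 := by
  rcases cent_le g with ⟨r, hr, h, hc⟩ | h
  · have h1 := List.all_eq_true.1 chk2 r hr
    rw [Bool.or_eq_true, Nat.ble_eq] at h1
    rcases h1 with h1 | h1
    · exact hc.trans h1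
    · exfalso
      have h2 := rel_of_chk h1 _ (List.mem_singleton_self _)
      rw [wprod_rpw] at h2
      apply hg
      obtain ⟨c, rfl⟩ := isConj_iff.1 h
      rw [pow_two] at h2
      calc c * wprod ml r.w * c⁻¹ * (c * wprod ml r.w * c⁻¹) = c * (wprod ml r.w * wprod ml r.w) * c⁻¹ := by group
        _ = 1 := by rw [h2]; group
  · exact h.trans (by norm_num)

theorem le_of_pow {n c : ℕ} (h16 : 16 ≤ c) (hk : (cls.all fun r => Nat.ble r.c c || (nz r.w n || Nat.beq r.w.length 0)) = true)
    (g : RuOrder.H) (hg : g ≠ 1) (hgn : g ^ n = 1) : Nat.card (centralizer ({g} : Set RuOrder.H)) ≤ c := by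
  rcases cent_le g with ⟨r, hr, h, hc⟩ | h
  · have h1 := List.all_eq_true.1 hk r hr
    rw [Bool.or_eq_true, Bool.or_eq_true, Nat.ble_eq] at h1
    rcases h1 with h1 | h1 | h1
    · exact hc.trans h1
    · exfalso
      apply ne_of_nz h1
      obtain ⟨d, rfl⟩ := isConj_iff.1 h
      rw [conj_pow] at hgn
      calc (wprod ml r.w : RuOrder.H) ^ n = d⁻¹ * (d * wprod ml r.w ^ n * d⁻¹) * d := by group
        _ = 1 := by rw [hgn]; group
    · exact absurd (eq_one_of_nil h h1) hg
  · exact h.trans h16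

theorem c3 (g : RuOrder.H) (hg : orderOf g = 3) : Nat.card (centralizer ({g} : Set RuOrder.H)) ≤ 2160 :=
  le_of_pow (by norm_num) chk3 g (by rintro rfl; rw [orderOf_one] at hg; omega) (by rw [← hg]; exact pow_orderOf_eq_one g)

theorem c5 (g : RuOrder.H) (hg : orderOf g = 5) : Nat.card (centralizer ({g} : Set RuOrder.H)) ≤ 1000 :=
  le_of_pow (by norm_num) chk5 g (by rintro rfl; rw [orderOf_one] at hg; omega) (by rw [← hg]; exact pow_orderOf_eq_one g)

end Cfsg.Agent.H915.S8.RuCent

private theorem dce_5f5ebc9c1825 : _root_.True := by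
  try have : _root_.True := by simp only [_root_.Cfsg.Agent.H915.S8.RuCent.bs.eq_1]
  exact _root_.True.intro
end
end
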